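import Cfsg.Agent.Lib.Blocks.DihBlock.RankThree.Extra
import Cfsg.Agent.Lib.Blocks.KernelPairs
import Cfsg.Agent.Lib.Chev.Twist.Dihedral

/-!
# Semidihedral defect groups with a central involution
-/

namespace CfsgLib.Blocks.DihBlock

open Cfsg CfsgLib.CharTheory

set_option linter.unusedVariables false
set_option linter.unusedSimpArgs false
set_option linter.style.haveILetI false
set_option linter.unusedSectionVars false

universe u

variable {K : Type u} [Group K] [Finite K]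

/-- The subgroup `D` is semidihedral, generated by `x` of order `2 * h` and the involution `y`. -/
structure SD (D : Subgroup K) (x y : K) (h : ℕ) : Prop where
  hpow : ∃ a : ℕ, h = 2 ^ (a + 2)
  ord : orderOf x = 2 * h
  card : Nat.card D = 2 * (2 * h)
  memx : x ∈ D
  memy : y ∈ D
  sq : y * y = 1
  rel : y * x * y⁻¹ = x ^ (h - 1)

variable {D : Subgroup K} {x y : K} {h : ℕ}

theorem SD.cyc (hd : SD D x y h) : Cyc x h := by
  obtain ⟨a, ha⟩ := hd.hpow
  exact ⟨⟨a + 1, ha⟩, hd.ord⟩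

theorem SD.arith (hd : SD D x y h) : 4 ≤ h ∧ ∃ t, h = 4 * t := by
  obtain ⟨a, rfl⟩ := hd.hpow
  exact ⟨by rw [pow_add]; have := Nat.one_le_two_pow (n := a); omega, 2 ^ a, by ring⟩

theorem SD.y_out (hd : SD D x y h) : y ∉ Subgroup.zpowers x := by
  rintro ⟨t, ht⟩
  obtain ⟨h4, -⟩ := hd.arith
  have e := hd.rel
  rw [← ht, (Commute.zpow_self x t).eq, mul_inv_cancel_right] at e
  exact hd.cyc.pow_ne_one (l := h - 2) (by omega) (by omega) (mul_eq_right.1
    (show x ^ (h - 2) * x = x by rw [← pow_succ, show h - 2 + 1 = h - 1 by omega, ← e]))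

theorem SD.mem_or (hd : SD D x y h) {d : K} (hd' : d ∈ D) :
    d ∈ Subgroup.zpowers x ∨ d * y ∈ Subgroup.zpowers x := by
  have hle : Subgroup.zpowers x ≤ D := Subgroup.zpowers_le.2 hd.memx
  have hidx : ((Subgroup.zpowers x).subgroupOf D).index = 2 := by
    have h1 := ((Subgroup.zpowers x).subgroupOf D).card_mul_index
    rw [Nat.card_congr (Subgroup.subgroupOfEquivOfLe hle).toEquiv, Nat.card_zpowers, hd.ord,
      hd.card] at h1
    have := hd.arith.1
    nlinarith
  by_cases hc : d ∈ Subgroup.zpowers x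
  · exact Or.inl hc
  · right
    have hyn : (⟨y, hd.memy⟩ : D) ∉ (Subgroup.zpowers x).subgroupOf D := fun e =>
      hd.y_out (Subgroup.mem_subgroupOf.1 e)
    have hdn : (⟨d, hd'⟩ : D) ∉ (Subgroup.zpowers x).subgroupOf D := fun e =>
      hc (Subgroup.mem_subgroupOf.1 e)
    exact Subgroup.mem_subgroupOf.1 ((Subgroup.mul_mem_iff_of_index_two hidx).2
      (iff_of_false hdn hyn))

theorem SD.conj_pow (hd : SD D x y h) (i : ℕ) : y * x ^ i * y⁻¹ = x ^ ((h - 1) * i) := by
  rw [← _root_.conj_pow, hd.rel, pow_mul]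

theorem SD.y_ne (hd : SD D x y h) : y ≠ 1 := fun e => hd.y_out (e ▸ one_mem _)

/-- Conjugation by an outer element on the powers of `x`. -/
theorem SD.conj_out (hd : SD D x y h) {d : K} (hd' : d ∈ D) (hn : d ∉ Subgroup.zpowers x)
    (i : ℕ) : d * x ^ i * d⁻¹ = x ^ ((h - 1) * i) := by
  obtain ⟨t, ht⟩ := (hd.mem_or hd').resolve_left hn
  have e : d = x ^ t * y := by
    rw [show x ^ t = d * y from ht, mul_assoc, hd.sq, mul_one]
  rw [e, mul_inv_rev, show x ^ t * y * x ^ i * (y⁻¹ * (x ^ t)⁻¹) =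
    x ^ t * (y * x ^ i * y⁻¹) * (x ^ t)⁻¹ by group, hd.conj_pow,
    ((Commute.refl x).zpow_left t |>.pow_right _).eq, mul_inv_cancel_right]

/-- The centre. -/
theorem SD.central (hd : SD D x y h) {d : K} (hd' : d ∈ D) (hx : Commute d x) (hy : Commute d y) :
    d = 1 ∨ d = x ^ h := by
  obtain ⟨h4, t, ht⟩ := hd.arith
  have hz : d ∈ Subgroup.zpowers x := by
    by_contra hn
    have e := hd.conj_out hd' hn 1
    rw [pow_one, mul_one, hx.eq, mul_inv_cancel_right] at e
    exact hd.cyc.pow_ne_one (l := h - 2) (by omega) (by omega) (mul_eq_right.1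
      (show x ^ (h - 2) * x = x by rw [← pow_succ, show h - 2 + 1 = h - 1 by omega, ← e]))
  refine hd.cyc.sq_eq_one hz ?_
  obtain ⟨i, rfl⟩ := (IsOfFinOrder.mem_powers_iff_mem_zpowers (isOfFinOrder_of_finite x)).2 hz
  simp only at hy ⊢
  have e := hd.conj_pow i
  rw [← hy.eq, mul_inv_cancel_right, show (h - 1) * i = (h - 2) * i + i by
    rw [show h - 1 = h - 2 + 1 by omega]; ring, pow_add, right_eq_mul] at e
  have h5 : 2 * h ∣ (h - 2) * i := hd.ord ▸ orderOf_dvd_of_pow_eq_one e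
  have hodd : Nat.Coprime h (2 * t - 1) := by
    obtain ⟨a, ha⟩ := hd.hpow
    rw [ha]
    exact (Nat.prime_two.coprime_iff_not_dvd.2 (by omega)).pow_left _
  have h6 : h ∣ i := by
    refine hodd.dvd_of_dvd_mul_left ?_
    refine Nat.dvd_of_mul_dvd_mul_left (k := 2) two_pos ?_
    rwa [← mul_assoc, show 2 * (2 * t - 1) = h - 2 by omega]
  rw [← pow_add, ← orderOf_dvd_iff_pow_eq_one, hd.ord, ← two_mul]
  exact Nat.mul_dvd_mul_left 2 h6

theorem SD.z_central (hd : SD D x y h) {d : K} (hd' : d ∈ D) : Commute d (x ^ h) := by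
  by_cases hn : d ∈ Subgroup.zpowers x
  · obtain ⟨t, rfl⟩ := hn
    exact (Commute.zpow_self x t).pow_right h
  · obtain ⟨h4, -⟩ := hd.arith
    have e := hd.conj_out hd' hn h
    obtain ⟨a, ha⟩ := hd.hpow
    rw [show (h - 1) * h = h + 2 * h * (h / 2 - 1) by
      obtain ⟨t, ht⟩ := hd.arith.2
      rw [show h / 2 - 1 = 2 * t - 1 by omega]
      have : h - 1 = 1 + 2 * (2 * t - 1) := by omega
      rw [this]; ring, pow_add, pow_mul x (2 * h), hd.cyc.pow_N, one_pow, mul_one] at e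
    exact mul_inv_eq_iff_eq_mul.1 e

/-- The quotient by the central involution is dihedral. -/
theorem SD.map_dg (hd : SD D x y h) {U : Subgroup K} [U.Normal]
    (hU : U = Subgroup.zpowers (x ^ h)) :
    DG (D.map (QuotientGroup.mk' U)) ((x : K ⧸ U)) (h / 2) ∧
      ¬ IsConj (y : K ⧸ U) ((x : K ⧸ U) ^ (h / 2)) ∧ (y : K ⧸ U) ≠ 1 := by
  classical
  obtain ⟨h4, t, ht⟩ := hd.arith
  have hord : orderOf (x ^ h) = 2 :=
    orderOf_eq_prime (by rw [pow_two, hd.cyc.z_ne.2]) hd.cyc.z_ne.1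
  have hmem : ∀ k : K, k ∈ U ↔ k = 1 ∨ k = x ^ h := by
    intro k
    rw [hU]
    constructor
    · rintro ⟨j, rfl⟩
      refine hd.cyc.sq_eq_one (Subgroup.zpow_mem _ (Subgroup.npow_mem_zpowers x h) j) ?_
      show (x ^ h) ^ j * (x ^ h) ^ j = 1
      rw [← (Commute.refl (x ^ h)).mul_zpow, hd.cyc.z_ne.2, one_zpow]
    · rintro (rfl | rfl)
      · exact one_mem _
      · exact Subgroup.mem_zpowers _
  have hox : orderOf (x : K ⧸ U) = h := by
    rw [orderOf_eq_iff (by omega)]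
    refine ⟨?_, fun m hm hm0 e => ?_⟩
    · rw [← QuotientGroup.mk_pow, QuotientGroup.eq_one_iff, hmem]
      exact Or.inr rfl
    · rw [← QuotientGroup.mk_pow, QuotientGroup.eq_one_iff, hmem] at e
      rcases e with e | e
      · exact hd.cyc.pow_ne_one hm0 (by omega) e
      · exact absurd (hd.cyc.pow_inj (by omega) (by omega) e) (by omega)
  have hy1 : (y : K ⧸ U) ≠ 1 := by
    intro e
    rw [QuotientGroup.eq_one_iff, hmem] at e
    rcases e with e | e
    · exact hd.y_ne e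
    · exact hd.y_out (e ▸ Subgroup.npow_mem_zpowers x h)
  have hh : h = 2 * (h / 2) := by omega
  refine ⟨⟨⟨?_, hox.trans hh⟩, ?_, ⟨x, hd.memx, rfl⟩⟩, ?_, hy1⟩
  · obtain ⟨a, ha⟩ := hd.hpow
    refine ⟨a, ?_⟩
    rw [ha, pow_succ _ (a + 1)]
    omega
  · set A := D.map (QuotientGroup.mk' U) with hA
    set a : A := ⟨(y : K ⧸ U), ⟨y, hd.memy, rfl⟩⟩ with ha
    set c : A := ⟨(x : K ⧸ U), ⟨x, hd.memx, rfl⟩⟩ with hc
    rw [← hh]
    haveI : NeZero h := ⟨by omega⟩
    have haa : a * a = 1 := Subtype.ext (by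
      show (y : K ⧸ U) * y = 1
      rw [← QuotientGroup.mk_mul, hd.sq, QuotientGroup.mk_one])
    refine CfsgLib.Chev.nonempty_dihedral a (a * c) haa (Subtype.ext ?_) ?_ ?_ ?_
    · show (y : K ⧸ U) * x * (y * x) = 1
      rw [← QuotientGroup.mk_mul, ← QuotientGroup.mk_mul, QuotientGroup.eq_one_iff, hmem]
      right
      rw [show y * x * (y * x) = y * x * y⁻¹ * (y * y) * x by group, hd.sq, mul_one, hd.rel,
        ← pow_succ]
      congr 1
      omega
    · rw [← mul_assoc, haa, one_mul]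
      exact Subtype.ext (by
        rw [SubmonoidClass.coe_pow]
        show (x : K ⧸ U) ^ h = 1
        rw [← hox, pow_orderOf_eq_one])
    · rw [eq_top_iff]
      rintro ⟨q, d, hd', rfl⟩ -
      set S := Subgroup.closure ({a, a * c} : Set A)
      have haS : a ∈ S := Subgroup.subset_closure (by simp)
      have hcS : c ∈ S := by
        have h1 : a * c ∈ S := Subgroup.subset_closure (by simp)
        have := S.mul_mem haS h1
        rwa [← mul_assoc, haa, one_mul] at this
      rcases hd.mem_or hd' with ⟨i, hi⟩ | ⟨i, hi⟩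
      · have : (⟨(d : K ⧸ U), ⟨d, hd', rfl⟩⟩ : A) = c ^ i := Subtype.ext (by
          show (d : K ⧸ U) = ((c ^ i : A) : K ⧸ U)
          rw [SubgroupClass.coe_zpow, show d = x ^ i from hi.symm, QuotientGroup.mk_zpow])
        exact this ▸ S.zpow_mem hcS i
      · have : (⟨(d : K ⧸ U), ⟨d, hd', rfl⟩⟩ : A) = c ^ i * a := Subtype.ext (by
          show (d : K ⧸ U) = ((c ^ i * a : A) : K ⧸ U)
          rw [Subgroup.coe_mul, SubgroupClass.coe_zpow]
          show (d : K ⧸ U) = (x : K ⧸ U) ^ i * y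
          rw [← QuotientGroup.mk_zpow, show x ^ i = d * y from hi, ← QuotientGroup.mk_mul,
            mul_assoc, hd.sq, mul_one])
        exact this ▸ S.mul_mem (S.zpow_mem hcS i) haS
    · have hUD : U ≤ D := by
        rw [hU, Subgroup.zpowers_le]
        exact D.pow_mem hd.memx h
      have h1 := Subgroup.card_eq_card_quotient_mul_card_subgroup (U.subgroupOf D)
      rw [Nat.card_congr (Subgroup.subgroupOfEquivOfLe hUD).toEquiv, hU, Nat.card_zpowers,
        hord, hd.card] at h1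
      have h2 : Nat.card A = ((Subgroup.zpowers (x ^ h)).subgroupOf D).index := by
        show Nat.card (D.map (QuotientGroup.mk' U)) = (Subgroup.zpowers (x ^ h)).relIndex D
        rw [← Subgroup.relIndex_ker, QuotientGroup.ker_mk', hU]
      rw [h2]
      change _ = Subgroup.index _ * 2 at h1
      omega
  · intro hc
    obtain ⟨q, hq⟩ := isConj_iff.1 hc
    obtain ⟨g, rfl⟩ := QuotientGroup.mk_surjective q
    rw [← QuotientGroup.mk_pow, ← QuotientGroup.mk_mul, ← QuotientGroup.mk_inv,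
      ← QuotientGroup.mk_mul, QuotientGroup.eq] at hq
    set u := (g * y * g⁻¹)⁻¹ * x ^ (h / 2) with hu
    have e1 : x ^ (h / 2) = g * y * g⁻¹ * u := by rw [hu, mul_inv_cancel_left]
    rw [hmem] at hq
    rcases hq with hq | hq
    · rw [hq, mul_one] at e1
      have : x ^ (h / 2) * x ^ (h / 2) = 1 := by
        rw [e1, show g * y * g⁻¹ * (g * y * g⁻¹) = g * (y * y) * g⁻¹ by group, hd.sq]; group
      rw [← pow_add, show h / 2 + h / 2 = h by omega] at this
      exact hd.cyc.z_ne.1 this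
    · rw [hq] at e1
      have e2 : g * y * g⁻¹ = x ^ (h / 2) * x ^ h := by
        rw [e1, mul_assoc (g * y * g⁻¹), hd.cyc.z_ne.2, mul_one]
      have : (x ^ (h / 2) * x ^ h) * (x ^ (h / 2) * x ^ h) = 1 := by
        rw [← e2, show g * y * g⁻¹ * (g * y * g⁻¹) = g * (y * y) * g⁻¹ by group, hd.sq]; group
      rw [← pow_add, ← pow_add, show h / 2 + h + (h / 2 + h) = h + 2 * h by omega, pow_add,
        hd.cyc.pow_N, mul_one] at this
      exact hd.cyc.z_ne.1 this

/-- A semidihedral group has generators as above. -/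
theorem exists_sd (hD : IsQuasiDihedral D) : ∃ x y h, SD D x y h := by
  obtain ⟨n, hn, hc, x, y, hx, hy, hr⟩ := hD
  have e : 2 ^ n = 2 * 2 ^ (n - 1) := by rw [← pow_succ', show n - 1 + 1 = n by omega]
  refine ⟨x, y, 2 ^ (n - 1), ⟨⟨n - 3, by rw [show n - 3 + 2 = n - 1 by omega]⟩, ?_, ?_, x.2, y.2,
    ?_, ?_⟩⟩
  · rw [Subgroup.orderOf_coe, hx, e]
  · rw [hc, pow_succ', e]
  · rw [← Subgroup.coe_mul, ← sq, ← hy, pow_orderOf_eq_one, Subgroup.coe_one]
  · exact congrArg Subtype.val hr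

/-- A dihedral two-group has a rotation as above. -/
theorem exists_dg {n : ℕ} (hn : 3 ≤ n) (hdih : Nonempty (D ≃* DihedralGroup (2 ^ (n - 1)))) :
    ∃ σ h, DG D σ h := by
  have hN : 2 ^ (n - 1) = 2 * 2 ^ (n - 2) := by
    rw [← pow_succ', show n - 2 + 1 = n - 1 by omega]
  rw [hN] at hdih
  obtain ⟨e⟩ := hdih
  haveI : NeZero (2 * 2 ^ (n - 2)) := ⟨by have := Nat.two_pow_pos (n - 2); omega⟩
  refine ⟨((e.symm (DihedralGroup.r 1) : D) : K), 2 ^ (n - 2),
    ⟨⟨n - 3, by rw [show n - 3 + 1 = n - 2 by omega]⟩, ?_⟩, ⟨e⟩, Subtype.prop _⟩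
  rw [Subgroup.orderOf_coe, MulEquiv.orderOf_eq, DihedralGroup.orderOf_r_one]

/-- The centre of a dihedral group. -/
theorem DG.central {σ : K} {D : Subgroup K} {h : ℕ} (hd : DG D σ h) {d : K} (hd' : d ∈ D)
    (hall : ∀ e ∈ D, Commute d e) : d = 1 ∨ d = σ ^ h := by
  have h2 := hd.toCyc.two_le
  obtain ⟨s, hs, hns⟩ := hd.exists_out
  have hz : d ∈ Subgroup.zpowers σ := by
    by_contra hn
    have e := (hd.out hd' hn).2
    rw [(hall σ hd.mem).eq, mul_inv_cancel_right] at e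
    exact hd.toCyc.pow_ne_one (l := 2) two_pos (by omega) (by
      rw [sq]; exact mul_eq_one_iff_eq_inv.2 e)
  refine hd.toCyc.sq_eq_one hz ?_
  have e := hd.invert hs hns hz
  rw [← (hall s hs).eq, mul_inv_cancel_right] at e
  exact mul_eq_one_iff_eq_inv.2 e

section Block

variable {G : Type u} [Group G] [Fintype G] {M : Ideal AlgInt} {B : Set (IrrCharacter G)}
  {D : Subgroup G}

/-- Semidihedral defect groups with central involution allow at most two modular characters. -/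
theorem semi_rank_le_two (hM : IsPModular 2 M) (hB : IsPBlock M B) (hD : IsDefectGroup 2 M B D)
    {x y : G} {h : ℕ} (hd : SD D x y h) (hz : x ^ h ∈ Subgroup.center G) :
    blockRank 2 B ≤ 2 := by
  classical
  haveI : Fact (Nat.Prime 2) := ⟨Nat.prime_two⟩
  obtain ⟨e, hmax⟩ := exists_maximal_at hM hB hD
  set U := Subgroup.zpowers (x ^ h) with hU
  have hUc : U ≤ Subgroup.center G := Subgroup.zpowers_le.2 hz
  haveI : U.Normal := ⟨fun u hu g => by
    rw [Subgroup.mem_center_iff.1 (hUc hu) g, mul_inv_cancel_right]; exact hu⟩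
  haveI := Fintype.ofFinite (G ⧸ U)
  have hUD : U ≤ D := Subgroup.zpowers_le.2 (D.pow_mem hd.memx h)
  have hUp : IsPGroup 2 U := hmax.1.1.1.to_le hUD
  obtain ⟨hBq, hle⟩ := quot_block hM hB hUp hUc
  obtain ⟨hdg, hnc, hy1⟩ := hd.map_dg (U := U) hU
  refine hle.trans (rank_le_two hM hBq (quot_defectGroup hM hmax hUc hUD) hdg
    (τ := (y : G ⧸ U)) ⟨y, hd.memy, rfl⟩ hy1 ?_ hnc)
  rw [← QuotientGroup.mk_mul, hd.sq, QuotientGroup.mk_one]

/-- Three modular characters force a centre of odd order. -/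
theorem odd_center (hM : IsPModular 2 M) (hB : IsPBlock M B) (hD : IsDefectGroup 2 M B D)
    (hD' : (∃ n : ℕ, 3 ≤ n ∧ Nonempty (D ≃* DihedralGroup (2 ^ (n - 1)))) ∨ IsQuasiDihedral D)
    (hl : 3 ≤ blockRank 2 B) : Odd (Nat.card (Subgroup.center G)) := by
  classical
  haveI : Fact (Nat.Prime 2) := ⟨Nat.prime_two⟩
  by_contra hne
  rw [Nat.not_odd_iff_even, even_iff_two_dvd] at hne
  obtain ⟨t, ht⟩ := exists_prime_orderOf_dvd_card' 2 hne
  rw [← Subgroup.orderOf_coe] at ht
  have hc : ∀ g : G, Commute (t : G) g := fun g => (Subgroup.mem_center_iff.1 t.2 g).symm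
  have hmem : (t : G) ∈ D := central_mem_defect hM hB hD t.2 ⟨1, by rw [ht, pow_one]⟩
  have hne1 : (t : G) ≠ 1 := fun e => by rw [e, orderOf_one] at ht; omega
  rcases hD' with ⟨n, hn, hdih⟩ | hsd
  · obtain ⟨σ, h, hd⟩ := exists_dg hn hdih
    have e := (hd.central hmem fun g _ => hc g).resolve_left hne1
    have := rank_one_of_central hM hB hD hd (e ▸ t.2)
    omega
  · obtain ⟨x, y, h, hd⟩ := exists_sd hsd
    have e := (hd.central hmem (hc x) (hc y)).resolve_left hne1
    have := semi_rank_le_two hM hB hD hd (e ▸ t.2)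
    omega

end Block

end CfsgLib.Blocks.DihBlock
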