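import Cfsg.Agent.Lib.Blocks.DihBlock.RankThree.Semi
import Cfsg.Agent.Lib.Blocks.HallHigman
import Cfsg.Agent.Lib.Basic

/-!
# Elements of odd order in a constrained group with semidihedral Sylow subgroups and central
involution
-/

namespace CfsgLib.Blocks.DihBlock

open Cfsg

set_option linter.unusedVariables false
set_option linter.unusedSimpArgs false
set_option linter.style.haveILetI false
set_option linter.unusedSectionVars false

universe u

variable {X : Type u} [Group X] [Finite X]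

/-- An element of odd order normalising a subgroup with an element of order at least four of a
dihedral two-group centralises it. -/
theorem DG.centralizes' {A : Subgroup X} {σ : X} {h : ℕ} (hd : DG A σ h) {W : Subgroup X}
    (hW : W ≤ A) {g : X} (hg : ¬ 2 ∣ orderOf g) (hn : ∀ v ∈ W, g * v * g⁻¹ ∈ W)
    {v : X} (hv : v ∈ W) (hv2 : v * v ≠ 1) : ∀ w ∈ W, Commute g w := by
  have hvR := hd.sq_ne_one_mem (hW hv) hv2
  have hv1 : v ≠ 1 := fun e => hv2 (by rw [e, one_mul])
  have hgR : g * v * g⁻¹ ∈ Subgroup.zpowers σ :=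
    hd.sq_ne_one_mem (hW (hn v hv)) fun e => hv2 (by
      rw [show g * v * g⁻¹ * (g * v * g⁻¹) = g * (v * v) * g⁻¹ by group, conj_eq_one_iff] at e
      exact e)
  exact hd.centralizes hW hg (mul_inv_eq_iff_eq_mul.1 (hd.toCyc.conj_z hvR hv1 hgR rfl)) hn

/-- The nontrivial elements of an elementary subgroup of a dihedral two-group. -/
theorem DG.card_three {A : Subgroup X} {σ : X} {h : ℕ} (hd : DG A σ h) {W : Subgroup X}
    (hW : W ≤ A) (hexp : ∀ v ∈ W, v * v = 1) :
    Nat.card {v : X // v ∈ W ∧ v ≠ 1} ≤ 3 := by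
  classical
  obtain ⟨s, hs⟩ : ∃ s, ∀ v ∈ W, v ≠ 1 → v = σ ^ h ∨ v = s ∨ v = σ ^ h * s := by
    by_cases hout : ∃ s ∈ W, s ∉ Subgroup.zpowers σ
    · obtain ⟨s, hsW, hsR⟩ := hout
      refine ⟨s, fun v hv hv1 => ?_⟩
      by_cases hvR : v ∈ Subgroup.zpowers σ
      · exact Or.inl ((hd.toCyc.sq_eq_one hvR (hexp v hv)).resolve_left hv1)
      · rcases hd.toCyc.sq_eq_one (hd.out_mul_out (hW hv) (hW hsW) hvR hsR)
          (hexp _ (W.mul_mem hv hsW)) with e | e
        · exact Or.inr (Or.inl ((mul_eq_one_iff_eq_inv.1 e).trans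
            (mul_eq_one_iff_eq_inv.1 (hexp s hsW)).symm))
        · refine Or.inr (Or.inr ?_)
          rw [← e, mul_assoc, hexp s hsW, mul_one]
    · push Not at hout
      exact ⟨1, fun v hv hv1 =>
        Or.inl ((hd.toCyc.sq_eq_one (hout v hv) (hexp v hv)).resolve_left hv1)⟩
  have hsub : {v : X | v ∈ W ∧ v ≠ 1} ⊆ ↑({σ ^ h, s, σ ^ h * s} : Finset X) := fun v hv => by
    simpa using hs v hv.1 hv.2
  refine (Nat.card_mono (Finset.finite_toSet _) hsub).trans ?_
  rw [Nat.card_coe_set_eq, Set.ncard_coe_finset]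
  exact Finset.card_le_three

/-- All nontrivial elements of odd order are conjugate. -/
theorem odd_classes {P : Sylow 2 X} {x y : X} {h : ℕ}
    (hd : SD (P : Subgroup X) x y h) (hz : x ^ h ∈ Subgroup.center X)
    (hcent : Subgroup.centralizer (pCore 2 X : Set X) ≤ pCore 2 X) {g g' : X}
    (hg : ¬ 2 ∣ orderOf g) (hg1 : g ≠ 1) (hg' : ¬ 2 ∣ orderOf g') (hg'1 : g' ≠ 1) :
    IsConj g g' := by
  classical
  haveI : Fact (Nat.Prime 2) := ⟨Nat.prime_two⟩
  set U := Subgroup.zpowers (x ^ h) with hU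
  haveI : U.Normal := ⟨fun u hu k => by
    rw [Subgroup.mem_center_iff.1 (Subgroup.zpowers_le.2 hz hu) k, mul_inv_cancel_right]
    exact hu⟩
  haveI := pCore_normal' (G := X) (p := 2)
  set π := QuotientGroup.mk' U with hπ
  obtain ⟨hdg, -, -⟩ := hd.map_dg (U := U) hU
  set V : Subgroup (X ⧸ U) := (pCore 2 X).map π with hV
  haveI hVn : V.Normal := Subgroup.Normal.map inferInstance π (QuotientGroup.mk'_surjective U)
  have hVD : V ≤ (P : Subgroup X).map π := Subgroup.map_mono (CfsgLib.pCore_le_sylow P)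
  haveI : (Subgroup.centralizer (V : Set (X ⧸ U))).Normal := Subgroup.normal_centralizer
  set C₀ := (Subgroup.centralizer (V : Set (X ⧸ U))).comap π with hC₀
  haveI : C₀.Normal := Subgroup.Normal.comap inferInstance π
  have hmemC : ∀ k, k ∈ C₀ ↔ ∀ v ∈ V, Commute (π k) v := fun k => by
    rw [hC₀, Subgroup.mem_comap, Subgroup.mem_centralizer_iff]
    exact ⟨fun e v hv => (e v hv).symm, fun e v hv => (e v hv).symm⟩
  have htriv : ∀ k ∈ C₀, ¬ 2 ∣ orderOf k → k = 1 := by
    intro k hk hko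
    have hkQ : k ∈ Subgroup.centralizer (pCore 2 X : Set X) := by
      rw [Subgroup.mem_centralizer_iff]
      intro q hq
      set w := k * q * k⁻¹ * q⁻¹ with hw
      have hwU : w ∈ U := by
        rw [← QuotientGroup.eq_one_iff]
        show π w = 1
        rw [hw, map_mul, map_mul, map_mul, map_inv, map_inv,
          ((hmemC k).1 hk (π q) ⟨q, hq, rfl⟩).eq, mul_inv_cancel_right, mul_inv_cancel]
      have hwc : ∀ a : X, a * w = w * a :=
        Subgroup.mem_center_iff.1 (Subgroup.zpowers_le.2 hz hwU)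
      have hpow : ∀ m : ℕ, k ^ m * q * (k ^ m)⁻¹ = w ^ m * q := by
        intro m
        induction m with
        | zero => simp
        | succ m ih =>
          rw [pow_succ', show k * k ^ m * q * (k * k ^ m)⁻¹ =
            k * (k ^ m * q * (k ^ m)⁻¹) * k⁻¹ by group, ih, ← mul_assoc k,
            (show Commute k (w ^ m) from (show Commute k w from hwc k).pow_right m).eq,
            mul_assoc (w ^ m), mul_assoc (w ^ m),
            show k * q * k⁻¹ = w * q by rw [hw]; group, ← mul_assoc, ← pow_succ]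
      have h1 := hpow (orderOf k)
      rw [pow_orderOf_eq_one, inv_one, one_mul, mul_one, right_eq_mul] at h1
      have h2 : orderOf w ∣ 2 := by
        obtain ⟨j, hj⟩ := hwU
        rw [orderOf_dvd_iff_pow_eq_one, ← hj, pow_two, ← (Commute.refl (x ^ h)).mul_zpow,
          hd.cyc.z_ne.2, one_zpow]
      have h3 : w = 1 := orderOf_eq_one_iff.1 (Nat.eq_one_of_dvd_coprimes
        (Nat.prime_two.coprime_iff_not_dvd.2 hko) h2 (orderOf_dvd_of_pow_eq_one h1))
      rw [hw, mul_inv_eq_one, mul_inv_eq_iff_eq_mul] at h3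
      exact h3.symm
    obtain ⟨i, hi⟩ := IsPGroup.iff_orderOf.1 (CfsgLib.isPGroup_pCore (G := X) 2)
      ⟨k, hcent hkQ⟩
    rw [Subgroup.orderOf_mk] at hi
    rcases i with _ | i
    · rwa [pow_zero, orderOf_eq_one_iff] at hi
    · exact absurd (hi ▸ dvd_pow_self 2 (Nat.succ_ne_zero i)) hko
  have hC2 : IsPGroup 2 C₀ := by
    rw [IsPGroup.iff_orderOf]
    rintro ⟨k, hk⟩
    obtain ⟨a, b, hab, -, ⟨i, hi⟩, hb, -, hbk⟩ := exists_pPart Nat.prime_two k
    have hb1 : b = 1 := htriv b (Subgroup.zpowers_le.2 hk hbk) hb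
    rw [hb1, mul_one] at hab
    exact ⟨i, by rw [Subgroup.orderOf_mk, ← hab]; exact hi⟩
  have hnorm : ∀ k : X, ∀ v ∈ V, π k * v * (π k)⁻¹ ∈ V := fun k v hv => hVn.conj_mem v hv (π k)
  have hodd : ∀ k : X, ¬ 2 ∣ orderOf k → ¬ 2 ∣ orderOf (π k) := fun k hk e =>
    hk (e.trans (orderOf_map_dvd π k))
  have hgC : g ∉ C₀ := fun e => hg1 (htriv g e hg)
  have hexp : ∀ v ∈ V, v * v = 1 := by
    intro v hv
    by_contra hv2
    exact hgC ((hmemC g).2 (hdg.centralizes' hVD (hodd g hg) (hnorm g) hv hv2))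
  -- the action on the nontrivial elements of `V`
  let S := {v : X ⧸ U // v ∈ V ∧ v ≠ 1}
  have hS3 : Nat.card S ≤ 3 := hdg.card_three hVD hexp
  letI act : MulAction X S :=
    { smul := fun k v => ⟨π k * v.1 * (π k)⁻¹, hnorm k _ v.2.1, fun e => v.2.2 (conj_eq_one_iff.1 e)⟩
      one_smul := fun v => Subtype.ext (by
        show π 1 * v.1 * (π 1)⁻¹ = v.1
        rw [map_one, inv_one, mul_one, one_mul])
      mul_smul := fun k l v => Subtype.ext (by
        show π (k * l) * v.1 * (π (k * l))⁻¹ = π k * (π l * v.1 * (π l)⁻¹) * (π k)⁻¹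
        rw [map_mul]; group) }
  set θ := MulAction.toPermHom X S with hθ
  have hker : ∀ k, θ k = 1 ↔ k ∈ C₀ := by
    intro k
    rw [hmemC]
    constructor
    · intro e v hv
      by_cases hv1 : v = 1
      · rw [hv1]; exact Commute.one_right _
      · exact mul_inv_eq_iff_eq_mul.1
          (congrArg Subtype.val (Equiv.Perm.ext_iff.1 e ⟨v, hv, hv1⟩))
    · intro e
      refine Equiv.Perm.ext fun v => Subtype.ext ?_
      show π k * v.1 * (π k)⁻¹ = v.1
      rw [(e _ v.2.1).eq, mul_inv_cancel_right]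
  have hord : ∀ k : X, ¬ 2 ∣ orderOf k → k ≠ 1 → θ k ≠ 1 ∧ orderOf (θ k) = 3 ∧
      Nat.card S = 3 := by
    intro k hk hk1
    have h1 : θ k ≠ 1 := fun e => hk1 (htriv k ((hker k).1 e) hk)
    have h2 : orderOf (θ k) ∣ (Nat.card S).factorial := by
      rw [← Nat.card_perm]
      exact orderOf_dvd_natCard _
    have h3 : ¬ 2 ∣ orderOf (θ k) := fun e => hk (e.trans (orderOf_map_dvd θ k))
    have h4 : orderOf (θ k) ≠ 1 := fun e => h1 (orderOf_eq_one_iff.1 e)
    generalize hn : Nat.card S = n at h2 hS3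
    generalize orderOf (θ k) = o at h2 h3 h4
    interval_cases n
    all_goals first
      | (have := Nat.le_of_dvd (by decide) h2
         simp only [Nat.factorial] at this
         refine ⟨h1, ?_, ?_⟩ <;> omega)
      | (have := Nat.le_of_dvd (by decide) h2
         simp only [Nat.factorial] at this h2
         interval_cases o <;> first | omega | exact ⟨h1, rfl, rfl⟩ | norm_num at h2)
  obtain ⟨hθg, hog, hS⟩ := hord g hg hg1
  obtain ⟨-, hog', -⟩ := hord g' hg' hg'1
  haveI : Fact (Nat.Prime 3) := ⟨Nat.prime_three⟩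
  have hthree : ∀ k : X, ¬ 2 ∣ orderOf k → k ≠ 1 → orderOf k = 3 := by
    intro k hk hk1
    have h1 : k ^ 3 ∈ C₀ := (hker _).1 (by
      rw [map_pow, ← (hord k hk hk1).2.1, pow_orderOf_eq_one])
    have h2 : k ^ 3 = 1 := htriv _ h1 fun e => hk (e.trans (orderOf_pow_dvd 3))
    exact orderOf_eq_prime h2 hk1
  obtain ⟨e⟩ : Nonempty (S ≃ Fin 3) := ⟨(Finite.equivFin S).trans (finCongr hS)⟩
  set φ : X →* Equiv.Perm (Fin 3) := (Equiv.permCongrHom e).toMonoidHom.comp θ with hφ
  have hφker : ∀ k, φ k = 1 ↔ k ∈ C₀ := fun k => by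
    rw [← hker k, hφ]
    exact (Equiv.permCongrHom e).map_eq_one_iff
  have hfac : (Nat.card X).factorization 3 = 1 := by
    have h1 := φ.ker.card_mul_index
    rw [Subgroup.index_ker] at h1
    have h2 : Nat.card φ.range ∣ 6 := by
      have h6 := φ.range.card_subgroup_dvd_card
      rwa [Nat.card_perm, Nat.card_fin, show (3 : ℕ).factorial = 6 from rfl] at h6
    have h3 : φ.ker = C₀ := by ext k; rw [MonoidHom.mem_ker, hφker]
    rw [h3] at h1
    obtain ⟨i, hi⟩ := IsPGroup.iff_card.1 hC2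
    have hle : (Nat.card X).factorization 3 ≤ 1 := by
      rw [← h1, hi, Nat.factorization_mul (by positivity) Nat.card_pos.ne', Finsupp.add_apply,
        Nat.factorization_pow, Finsupp.smul_apply,
        Nat.factorization_eq_zero_of_not_dvd (n := 2) (p := 3) (by norm_num)]
      have h5 := ((Nat.factorization_le_iff_dvd Nat.card_pos.ne' (by norm_num)).2 h2) 3
      have h6 : (6 : ℕ).factorization 3 = 1 := by
        rw [show (6 : ℕ) = 2 * 3 from rfl, Nat.factorization_mul (by norm_num) (by norm_num),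
          Finsupp.add_apply, Nat.Prime.factorization_self Nat.prime_three,
          Nat.factorization_eq_zero_of_not_dvd (n := 2) (p := 3) (by norm_num)]
      simp only [smul_zero, zero_add]
      omega
    have hge : 1 ≤ (Nat.card X).factorization 3 :=
      (Nat.prime_three.dvd_iff_one_le_factorization Nat.card_pos.ne').1
        (hthree g hg hg1 ▸ orderOf_dvd_natCard g)
    omega
  have hg3 : g ^ 3 = 1 := hthree g hg hg1 ▸ pow_orderOf_eq_one g
  let P3 : Sylow 3 X := Sylow.ofCard (Subgroup.zpowers g)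
    (by rw [Nat.card_zpowers, hthree g hg hg1, hfac, pow_one])
  let P3' : Sylow 3 X := Sylow.ofCard (Subgroup.zpowers g')
    (by rw [Nat.card_zpowers, hthree g' hg' hg'1, hfac, pow_one])
  have hφg : φ g * φ g * φ g = 1 ∧ φ g ≠ 1 := by
    refine ⟨?_, fun e1 => hgC ((hφker g).1 e1)⟩
    rw [← map_mul, ← map_mul, show g * g * g = g ^ 3 by rw [pow_succ, pow_two], hg3, map_one]
  have hinv : IsConj g g⁻¹ := by
    set T := (Equiv.Perm.sign.comp φ).ker with hT
    have hgT : g ∈ T := by
      show Equiv.Perm.sign (φ g) = 1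
      exact (show ∀ a b : Equiv.Perm (Fin 3), a * a * a = 1 → a ≠ 1 → a * b = b * a →
        Equiv.Perm.sign b = 1 by decide) _ _ hφg.1 hφg.2 rfl
    obtain ⟨d, hdP, hdT⟩ : ∃ d ∈ (P : Subgroup X), d ∉ T := by
      by_contra hall
      push Not at hall
      have hsub : (P : Subgroup X) ≤ C₀ := by
        intro d hd'
        rw [← hφker]
        obtain ⟨i, hi⟩ := IsPGroup.iff_orderOf.1 P.isPGroup' ⟨d, hd'⟩
        rw [Subgroup.orderOf_mk] at hi
        by_contra hne
        have h6 : (φ d) ^ 2 = 1 := by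
          rw [← orderOf_dvd_iff_pow_eq_one]
          have ha : orderOf (φ d) ∣ 2 ^ i := hi ▸ orderOf_map_dvd φ d
          obtain ⟨j, hj, hj'⟩ := (Nat.dvd_prime_pow Nat.prime_two).1 ha
          have hb : orderOf (φ d) ∣ 6 := by
            have := orderOf_dvd_natCard (φ d)
            rwa [Nat.card_perm, Nat.card_fin, show (3 : ℕ).factorial = 6 from rfl] at this
          rw [hj'] at hb ⊢
          rcases j with _ | _ | j
          · exact one_dvd _
          · rfl
          · have := Dvd.dvd.trans (pow_dvd_pow 2 (show 2 ≤ j + 1 + 1 by omega)) hb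
            norm_num at this
        have := (show ∀ b : Equiv.Perm (Fin 3), b * b = 1 → b ≠ 1 → Equiv.Perm.sign b = -1 by
          decide) _ ((pow_two _).symm.trans h6) hne
        have h7 : Equiv.Perm.sign (φ d) = 1 := hall d hd'
        rw [h7] at this
        exact absurd this (by decide)
      have hPC : C₀ = (P : Subgroup X) := P.is_maximal' hC2 hsub
      haveI : ((P : Subgroup X).map π).Normal :=
        Subgroup.Normal.map (hPC ▸ inferInstance) π (QuotientGroup.mk'_surjective U)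
      refine hgC ((hmemC g).2 fun v hv => hdg.centralizes' le_rfl (hodd g hg)
        (fun w hw => ‹((P : Subgroup X).map π).Normal›.conj_mem w hw _)
        (v := (x : X ⧸ U)) ⟨x, hd.memx, rfl⟩ ?_ v (hVD hv))
      rw [← pow_two]
      exact hdg.toCyc.pow_ne_one two_pos (by have := hdg.toCyc.two_le; omega)
    have hle : (P3 : Subgroup X) ≤ T := by
      rw [Sylow.coe_ofCard, Subgroup.zpowers_le]; exact hgT
    have htop := Sylow.normalizer_sup_eq_top' P3 hle
    obtain ⟨n, hn, t, ht, hnt⟩ := Subgroup.mem_sup_of_normal_right.1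
      (show d ∈ _ by rw [htop]; trivial)
    have hnT : n ∉ T := fun e1 => hdT (hnt ▸ T.mul_mem e1 ht)
    have hgn : n * g * n⁻¹ ∈ Subgroup.zpowers g := by
      exact (Subgroup.mem_normalizer_iff.1 hn g).1 (Subgroup.mem_zpowers g)
    obtain ⟨j, hj, hj'⟩ : ∃ j < 3, n * g * n⁻¹ = g ^ j := by
      obtain ⟨i, hi⟩ := (IsOfFinOrder.mem_powers_iff_mem_zpowers (isOfFinOrder_of_finite g)).2 hgn
      exact ⟨i % 3, Nat.mod_lt _ (by norm_num), by
        rw [← hthree g hg hg1, pow_mod_orderOf]; exact hi.symm⟩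
    interval_cases j
    · rw [pow_zero, conj_eq_one_iff] at hj'
      exact absurd hj' hg1
    · exfalso
      rw [pow_one, mul_inv_eq_iff_eq_mul] at hj'
      exact hnT ((show ∀ a b : Equiv.Perm (Fin 3), a * a * a = 1 → a ≠ 1 → a * b = b * a →
        Equiv.Perm.sign b = 1 by decide) (φ g) (φ n) hφg.1 hφg.2
          (by rw [← map_mul, ← map_mul, hj']))
    · refine isConj_iff.2 ⟨n, hj'.trans (eq_inv_of_mul_eq_one_left ?_)⟩
      rw [← pow_succ]
      exact hg3
  obtain ⟨c, hc⟩ := MulAction.exists_smul_eq X P3' P3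
  have hc' : c * g' * c⁻¹ ∈ Subgroup.zpowers g := by
    have h1 : (MulAut.conj c) • g' ∈ ((c • P3' : Sylow 3 X) : Subgroup X) := by
      rw [Sylow.coe_subgroup_smul, Sylow.coe_ofCard]
      exact Subgroup.smul_mem_pointwise_smul _ _ _ (Subgroup.mem_zpowers g')
    rw [hc, Sylow.coe_ofCard] at h1
    exact h1
  obtain ⟨i, hi⟩ := (IsOfFinOrder.mem_powers_iff_mem_zpowers (isOfFinOrder_of_finite g)).2 hc'
  have hi' : c * g' * c⁻¹ = g ^ (i % 3) := by
    rw [← hthree g hg hg1, pow_mod_orderOf]; exact hi.symm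
  have hi3 := Nat.mod_lt i (show 0 < 3 by norm_num)
  have hcc : IsConj g' (g ^ (i % 3)) := isConj_iff.2 ⟨c, hi'⟩
  interval_cases hm : i % 3
  · rw [pow_zero, conj_eq_one_iff] at hi'
    exact absurd hi' hg'1
  · exact (hcc.trans (by rw [pow_one])).symm
  · refine hinv.trans (hcc.trans ?_).symm
    rw [show g ^ 2 = g⁻¹ from eq_inv_of_mul_eq_one_left (by
      rw [← pow_succ]; exact hg3)]

end CfsgLib.Blocks.DihBlock
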