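import Cfsg.Agent.Lib.Blocks.DihBlock.Main
import Cfsg.Agent.Lib.Blocks.OneMore
import Cfsg.Agent.Lib.Blocks.CentralQuotient
import Cfsg.Agent.Lib.Blocks.CyclicQuotient
import Cfsg.Agent.Lib.Blocks.RankQuotient

/-!
# Unfused involutions bound the regular rank of a dihedral block
-/

namespace CfsgLib.Blocks.DihBlock

open Cfsg CfsgLib.CharTheory
open scoped ComplexConjugate

set_option linter.unusedVariables false
set_option linter.unusedSimpArgs false
set_option linter.style.haveILetI false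
set_option linter.unusedSectionVars false

universe u

variable {G : Type u} [Group G] [Fintype G] {M : Ideal AlgInt} {B : Set (IrrCharacter G)}
  {p : ℕ}

/-- A block does not vanish on the section of an element of a defect group. -/
theorem exists_section_ne (hM : IsPModular p M) {P : Subgroup G}
    {c : Set (IrrCharacter (Subgroup.centralizer (P : Set G)))}
    (hmax : IsMaximalBrauerPair p M B P c) {x : G} (hx : x ∈ P) :
    ∃ y ∈ regC p x, ∃ χ ∈ B, (χ : G → ℂ) (x * y) ≠ 0 := by
  classical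
  haveI : Fact p.Prime := ⟨hM.1⟩
  set H := Subgroup.centralizer ((Subgroup.zpowers x : Subgroup G) : Set G) with hHdef
  haveI := Fintype.ofFinite H
  have hC : IsCentr x H := isCentr_zpowers x
  have hP : IsPGroup p P := hmax.1.1.1
  obtain ⟨k, hk⟩ := IsPGroup.iff_orderOf.1 hP ⟨x, hx⟩
  rw [← Subgroup.orderOf_coe] at hk
  have hQ : Subgroup.zpowers x ≤ P := Subgroup.zpowers_le.2 hx
  obtain ⟨h1, h2⟩ := subIdx_spec hM (a := (⟨P, c⟩ : BrauerPairIdx G)) hP hmax.1.1.2 hQ
  have hb : IsInducedBlock M H (subIdx p M ⟨P, c⟩ (Subgroup.zpowers x)).2 B :=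
    (induced_centralizer_iff hM (hP.to_le hQ)).2 ((pairOf_subpair_iff hM h2 B).2 hmax.1)
  obtain ⟨ψ, hψ⟩ := block_nonempty hM hb.1
  have hover : ψ ∈ overBlocks M H B := by
    show IsInducedBlock M H (blockOf M (ψ : H → ℂ)) B
    rw [← eq_blockOf hM hb.1 hψ]
    exact hb
  by_contra hc
  push Not at hc
  have hr : ¬ p ∣ orderOf (1 : H) := by simpa using hM.1.ne_one
  have h := sum_sq_section hM hC ⟨k, hk⟩ hmax.1.2.1 hr hr
  rw [Finset.sum_eq_zero fun χ hχ => by
    rw [hc _ (mem_regC.2 ⟨by simp, by simpa using hM.1.ne_one⟩) χ (mem_bset.1 hχ), zero_mul]] at h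
  simp only [Complex.mul_conj, ← Complex.ofReal_sum] at h
  have h' := Complex.ofReal_eq_zero.1 h.symm
  have h3 := (Finset.sum_eq_zero_iff_of_nonneg fun χ _ => Complex.normSq_nonneg _).1 h' ψ
    (mem_bset.2 hover)
  exact irr_one_ne_zero ψ (Complex.normSq_eq_zero.1 h3)

variable {σ : G} {h : ℕ} [Fintype (zc σ h)] {f : Set (IrrCharacter (zc σ h))}
  {a : BrauerPairIdx (zc σ h)} {s : zc σ h} {ψ₀ : IrrCharacter (zc σ h)}
  {T : IrrCharacter a.1 → IrrCharacter (zc σ h)}

/-- A nonvanishing column away from the rotations lowers the bound for the regular rank. -/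
theorem Par.rank_le_extra (P : Par M B σ h f a s ψ₀ T) {g : G} (hg2 : 2 ∣ orderOf g)
    (hgoff : ∀ u ∈ Subgroup.zpowers s, u ≠ 1 →
      ∀ y ∈ regC 2 u, ¬ IsConj ((u * y : zc σ h) : G) g)
    (hne : ∃ χ ∈ B, (χ : G → ℂ) g ≠ 0) : blockRank 2 B + h + 1 ≤ (bset B).card := by
  classical
  have h2 := P.cyc.two_le
  set v : bset B → G → ℂ := fun χ => pRegularPart 2 (χ.1 : G → ℂ) with hv
  set L := Fintype.linearCombination ℂ v with hL
  have hrange : blockRank 2 B = Module.finrank ℂ (LinearMap.range L) := by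
    rw [hL, Fintype.range_linearCombination]
    have : Set.range v = (fun χ : IrrCharacter G => pRegularPart 2 (χ : G → ℂ)) '' B := by
      ext F
      constructor
      · rintro ⟨χ, rfl⟩; exact ⟨χ.1, mem_bset.1 χ.2, rfl⟩
      · rintro ⟨χ, hχ, rfl⟩; exact ⟨⟨χ, mem_bset.2 hχ⟩, rfl⟩
    rw [this]
    rfl
  set c : Fin h → bset B → ℂ := fun i χ => lam a T χ.1 (s ^ ((i : ℕ) + 1)) with hc
  set d : bset B → ℂ := fun χ => (χ.1 : G → ℂ) g with hd
  have hsne : ∀ i : Fin h, s ^ ((i : ℕ) + 1) ≠ 1 := fun i =>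
    P.dg.toCyc.pow_ne_one (by omega) (by omega)
  have hker : ∀ i, c i ∈ LinearMap.ker L := by
    intro i
    rw [LinearMap.mem_ker]
    funext x
    rw [hL, Fintype.linearCombination_apply]
    simp only [Finset.sum_apply, Pi.smul_apply, smul_eq_mul, hc, hv, pRegularPart_apply,
      Pi.zero_apply]
    by_cases hx : 2 ∣ orderOf x
    · simp [hx]
    · simp only [if_neg hx]
      rw [Finset.sum_coe_sort (bset B) (fun χ : IrrCharacter G =>
        lam a T χ (s ^ ((i : ℕ) + 1)) * (χ : G → ℂ) x),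
        Finset.sum_congr rfl fun χ _ => by rw [show (χ : G → ℂ) x = conj ((χ : G → ℂ) x⁻¹) by
          rw [irr_conjInv, inv_inv]]]
      exact P.orth_regular (Subgroup.npow_mem_zpowers s _) (hsne i) (by rwa [orderOf_inv])
  have hkerd : d ∈ LinearMap.ker L := by
    rw [LinearMap.mem_ker]
    funext x
    rw [hL, Fintype.linearCombination_apply]
    simp only [Finset.sum_apply, Pi.smul_apply, smul_eq_mul, hd, hv, pRegularPart_apply,
      Pi.zero_apply]
    by_cases hx : 2 ∣ orderOf x
    · simp [hx]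
    · simp only [if_neg hx]
      rw [Finset.sum_coe_sort (bset B) (fun χ : IrrCharacter G => (χ : G → ℂ) g * (χ : G → ℂ) x),
        Finset.sum_congr rfl fun χ _ => mul_comm _ _]
      exact weak_orth P.hM P.toLoc.hB hx hg2
  have horth : ∀ i, ∑ χ : bset B, c i χ * conj (d χ) = 0 := fun i => by
    simp only [hc, hd]
    rw [Finset.sum_coe_sort (bset B) (fun χ : IrrCharacter G =>
      lam a T χ (s ^ ((i : ℕ) + 1)) * conj ((χ : G → ℂ) g))]
    exact P.orth_off (Subgroup.npow_mem_zpowers s _) (hsne i)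
      (hgoff _ (Subgroup.npow_mem_zpowers s _) (hsne i))
  have hind : LinearIndependent ℂ c := by
    rw [Fintype.linearIndependent_iff]
    intro z hz j
    have h1 : ∑ χ : bset B, (∑ i, z i * c i χ) * conj (c j χ) = 0 :=
      Finset.sum_eq_zero fun χ _ => by
        have := congrFun hz χ
        simp only [Finset.sum_apply, Pi.smul_apply, smul_eq_mul, Pi.zero_apply] at this
        rw [this, zero_mul]
    simp only [Finset.sum_mul, mul_assoc] at h1
    rw [Finset.sum_comm, Finset.sum_congr rfl fun i _ => by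
      rw [← Finset.mul_sum, Finset.sum_coe_sort (bset B) (fun χ : IrrCharacter G =>
        lam a T χ (s ^ ((i : ℕ) + 1)) * conj (lam a T χ (s ^ ((j : ℕ) + 1)))),
        P.orth_pow (by omega) (by omega) (by omega) (by omega)]] at h1
    rw [Finset.sum_eq_single j (fun i _ hij => by
      rw [if_neg (fun e => hij (Fin.ext (by omega))), if_neg (by
        intro e
        exact hij (Fin.ext (by omega)))]
      ring) (by simp)] at h1
    refine (mul_eq_zero.1 h1).resolve_right (mul_ne_zero (Nat.cast_ne_zero.2 (by omega)) ?_)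
    rw [if_pos rfl]
    split_ifs <;> norm_num
  have hnotin : d ∉ Submodule.span ℂ (Set.range c) := by
    intro hmem
    obtain ⟨z, hz⟩ := (Submodule.mem_span_range_iff_exists_fun ℂ).1 hmem
    have h1 : ∑ χ : bset B, d χ * conj (d χ) = 0 := by
      have e : ∀ χ, d χ = ∑ i, z i * c i χ := fun χ => by
        conv_lhs => rw [← hz]
        simp only [Finset.sum_apply, Pi.smul_apply, smul_eq_mul]
      calc ∑ χ : bset B, d χ * conj (d χ)
          = ∑ χ : bset B, ∑ i, z i * (c i χ * conj (d χ)) := by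
            refine Finset.sum_congr rfl fun χ _ => ?_
            rw [e χ, Finset.sum_mul, ← e χ]
            exact Finset.sum_congr rfl fun i _ => by ring
        _ = _ := by
            rw [Finset.sum_comm]
            exact Finset.sum_eq_zero fun i _ => by rw [← Finset.mul_sum, horth i, mul_zero]
    simp only [Complex.mul_conj, ← Complex.ofReal_sum] at h1
    obtain ⟨χ, hχ, hχ0⟩ := hne
    have h3 := (Finset.sum_eq_zero_iff_of_nonneg fun χ _ => Complex.normSq_nonneg _).1
      (Complex.ofReal_eq_zero.1 h1) ⟨χ, mem_bset.2 hχ⟩ (Finset.mem_univ _)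
    exact hχ0 (Complex.normSq_eq_zero.1 h3)
  have hind' := linearIndependent_finCons.2 ⟨hind, hnotin⟩
  have hle : h + 1 ≤ Module.finrank ℂ (LinearMap.ker L) := by
    have h3 := finrank_span_eq_card hind'
    rw [Fintype.card_fin] at h3
    refine h3.ge.trans (Submodule.finrank_mono (Submodule.span_le.2 ?_))
    rintro _ ⟨i, rfl⟩
    refine Fin.cases ?_ (fun j => ?_) i
    · simpa using hkerd
    · simpa using hker j
  have h4 := LinearMap.finrank_range_add_finrank_ker L
  rw [Module.finrank_fintype_fun_eq_card, Fintype.card_coe] at h4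
  omega

end CfsgLib.Blocks.DihBlock

namespace CfsgLib.Blocks.DihBlock

open Cfsg CfsgLib.CharTheory

set_option linter.unusedVariables false
set_option linter.style.haveILetI false
set_option linter.unusedSectionVars false

universe u

variable {G : Type u} [Group G] [Fintype G] {M : Ideal AlgInt} {B : Set (IrrCharacter G)}
  {D : Subgroup G} {σ : G} {h : ℕ}

/-- An involution of the defect group not fused to the centre bounds the regular rank by two. -/
theorem rank_le_two (hM : IsPModular 2 M) (hB : IsPBlock M B) (hD : IsDefectGroup 2 M B D)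
    (hd : DG D σ h) {τ : G} (hτ : τ ∈ D) (h1 : τ ≠ 1) (h2 : τ * τ = 1)
    (hnc : ¬ IsConj τ (σ ^ h)) : blockRank 2 B ≤ 2 := by
  classical
  haveI : Fact (Nat.Prime 2) := ⟨Nat.prime_two⟩
  haveI := Fintype.ofFinite (zc σ h)
  obtain ⟨e, hmax⟩ := exists_maximal_at hM hB hD
  obtain ⟨y, hy, χ, hχ, hne⟩ := exists_section_ne hM hmax hτ
  obtain ⟨f, a, s, L⟩ := exists_loc hM hB hD hd
  obtain ⟨ψ₀, T, P⟩ := L.exists_par
  have hoτ : orderOf τ = 2 := orderOf_eq_prime (by rw [sq, h2]) h1
  have hyc := mem_regC.1 hy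
  have hg2 : 2 ∣ orderOf (τ * y) := by
    rw [hyc.1.orderOf_mul_eq_mul_orderOf_of_coprime
      (hoτ ▸ (Nat.prime_two.coprime_iff_not_dvd.2 hyc.2)), hoτ]
    exact dvd_mul_right 2 _
  have hk := P.rank_le_extra hg2 (fun u hu hu1 w hw hc => ?_) ⟨χ, hχ, hne⟩
  · rw [P.invariants.1] at hk
    omega
  · obtain ⟨x, hx⟩ := isConj_iff.1 hc
    have hconj : x * (u : G) * x⁻¹ = τ := pPart_conj Nat.prime_two
      (u := (u : G)) (v := τ) (y := (w : G)) (y' := y)
      (mem_regC.2 ⟨(mem_regC.1 hw).1.map (zc σ h).subtype,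
        by rw [Subgroup.orderOf_coe]; exact (mem_regC.1 hw).2⟩)
      hy (P.cyc.exists_order (P.toLoc.coe_mem hu)) ⟨1, by rw [hoτ, pow_one]⟩
      (by rw [← hx, Subgroup.coe_mul])
    have hsq : (u : G) * u = 1 := by
      have : x * ((u : G) * u) * x⁻¹ = 1 := by rw [← h2, ← hconj]; group
      exact conj_eq_one_iff.1 this
    rcases P.cyc.sq_eq_one (P.toLoc.coe_mem hu) hsq with e1 | e1
    · exact P.toLoc.coe_ne hu1 e1
    · exact hnc ((isConj_iff.2 ⟨x, hconj⟩).symm.trans (e1 ▸ IsConj.refl _))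

/-- A dihedral block with central involution is nilpotent. -/
theorem rank_one_of_central (hM : IsPModular 2 M) (hB : IsPBlock M B)
    (hD : IsDefectGroup 2 M B D) (hd : DG D σ h) (hz : σ ^ h ∈ Subgroup.center G) :
    blockRank 2 B = 1 := by
  classical
  haveI : Fact (Nat.Prime 2) := ⟨Nat.prime_two⟩
  obtain ⟨e, hmax⟩ := exists_maximal_at hM hB hD
  refine (nilpotent_rank_one hM ⟨hB, fun Q g hQ x hxN _ hxr => ?_⟩).1
  obtain ⟨t, ht⟩ := (carries_iff_pairOf hM hmax (a := ⟨Q, g⟩)).2 hQ
  have hle : Q.map (MulAut.conj t).toMonoidHom ≤ D :=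
    subpairLE_le (a := conjIdx t (⟨Q, g⟩ : BrauerPairIdx G)) (b := ⟨D, e⟩) ht
  have hc := hd.centralizes hle (x := t * x * t⁻¹)
    (by rw [conj_orderOf]; exact hxr) (Subgroup.mem_center_iff.1 hz _) (by
      rintro _ ⟨q, hq, rfl⟩
      refine ⟨x * q * x⁻¹, (Subgroup.mem_normalizer_iff.1 hxN q).1 hq, ?_⟩
      simp only [MulEquiv.coe_toMonoidHom, MulAut.conj_apply]
      group)
  intro q hq
  exact ((Commute.conj_iff t).1 (hc _ ⟨q, hq, rfl⟩)).eq.symm

/-- The characters of the quotient by a central two-subgroup form one block with the same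
regular span. -/
theorem quot_block {p : ℕ} (hM : IsPModular p M) (hB : IsPBlock M B) {U : Subgroup G} [U.Normal]
    [Fintype (G ⧸ U)] (hU : IsPGroup p U) (hUc : U ≤ Subgroup.center G) :
    IsPBlock M (quotBlock U B) ∧ blockRank p B ≤ blockRank p (quotBlock U B) := by
  classical
  haveI : Fact p.Prime := ⟨hM.1⟩
  have hC : ∃ k : ℕ, (Subgroup.centralizer (U : Set G)).index = p ^ k :=
    ⟨0, by rw [pow_zero, Subgroup.index_eq_one, Subgroup.centralizer_eq_top_iff_subset]; exact hUc⟩
  have hsup : U ⊔ Subgroup.centralizer (U : Set G) = ⊤ := by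
    rw [(Subgroup.centralizer_eq_top_iff_subset).2 hUc, sup_top_eq]
  refine ⟨?_, ?_⟩
  · obtain ⟨ψ, hψ⟩ := Inflation.exists_inflIrr_mem U hM hU hB
    refine (show quotBlock U B = blockOf M (ψ : G ⧸ U → ℂ) from ?_) ▸ blockOf_isPBlock ψ
    ext φ
    show Inflation.inflIrr U φ ∈ B ↔ SameBlock M (ψ : G ⧸ U → ℂ) (φ : G ⧸ U → ℂ)
    rw [Inflation.sameBlock_inflIrr_iff U hM hU hC]
    constructor
    · exact fun h => sameBlock_of_mem hM hB hψ h
    · intro h
      rw [eq_blockOf hM hB hψ]
      exact h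
  · have hcomm : ∀ ψ : IrrCharacter (G ⧸ U),
        regPull p U (pRegularPart p (ψ : G ⧸ U → ℂ)) =
          pRegularPart p (Inflation.inflIrr U ψ : G → ℂ) := fun ψ => by
      funext g
      simp only [regPull, LinearMap.coe_mk, AddHom.coe_mk, pRegularPart_apply,
        Inflation.inflIrr_apply]
      split_ifs with h1 h2
      · rfl
      · exact absurd h2 (mk_regular h1)
      · rfl
    refine le_trans (Submodule.finrank_mono ?_) (Submodule.finrank_map_le (regPull p U) _)
    rw [Submodule.span_le]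
    rintro _ ⟨χ, hχ, rfl⟩
    have hfun : pRegularPart p (χ : G → ℂ) = ∑ ψ ∈ bset B,
        ((Nat.card G : ℂ)⁻¹ * ((Nat.card U : ℂ) * omega (ψ : G → ℂ) (avgFn U) *
          regS p (χ : G → ℂ) (ψ : G → ℂ))) • pRegularPart p (ψ : G → ℂ) := by
      funext y
      simp only [Finset.sum_apply, Pi.smul_apply, smul_eq_mul, pRegularPart_apply]
      by_cases hy : p ∣ orderOf y
      · simp [hy]
      · simp only [if_neg hy, mul_assoc ((Nat.card G : ℂ)⁻¹)]
        rw [← Finset.mul_sum, ← regular_combination hM hU hsup hB hχ hy, ← mul_assoc,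
          inv_mul_cancel₀ (Nat.cast_ne_zero.2 Nat.card_pos.ne'), one_mul]
    simp only [SetLike.mem_coe, hfun]
    refine Submodule.sum_mem _ fun ψ hψ => ?_
    rcases (omega_avgFn U ψ).1 with h | h
    · simp [h]
    · refine Submodule.smul_mem _ _ ?_
      obtain ⟨φ, hφ, he⟩ := exists_quotient_irr U ψ.2 ((omega_avgFn U ψ).2.1 h)
      have heq : ψ = Inflation.inflIrr U ⟨φ, hφ⟩ := Subtype.ext he
      rw [heq, ← hcomm]
      exact Submodule.mem_map_of_mem (Submodule.subset_span
        ⟨⟨φ, hφ⟩, show Inflation.inflIrr U ⟨φ, hφ⟩ ∈ B from heq ▸ mem_bset.1 hψ, rfl⟩)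

end CfsgLib.Blocks.DihBlock
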