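import Cfsg.Agent.Lib.Blocks.Orth
import Cfsg.Agent.Lib.CharTheory.ExtCriteria
import Cfsg.Agent.Lib.CharTheory.Clifford
import Cfsg.Agent.Lib.CharTheory.Gallagher
import Cfsg.Agent.Lib.Blocks.Rank

/-!
# Regular ranks over a stable character
-/

namespace CfsgLib.Blocks.DihBlock

open Cfsg CfsgLib.CharTheory
open scoped ComplexConjugate

set_option linter.unusedVariables false
set_option linter.unusedSimpArgs false
set_option linter.style.haveILetI false
set_option linter.unusedSectionVars false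

universe u

variable {G : Type u} [Group G] [Fintype G]

/-- Over a stable character, the restrictions to a coset are proportional. -/
theorem exists_coset_fun {K : Subgroup G} [K.Normal] [Fintype K] {θ : K → ℂ}
    (hθ : IsIrrCharacter K θ) (hinv : ∀ g : G, conjNormFun K g θ = θ) (g₁ : G) :
    ∃ F : G → ℂ, ∀ χ : IrrCharacter G, classInner (fun n : K => (χ : G → ℂ) n) θ ≠ 0 →
      ∃ c : ℂ, ∀ x : G, (x : G ⧸ K) = (g₁ : G ⧸ K) → (χ : G → ℂ) x = c * F x := by
  classical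
  set L := K ⊔ Subgroup.zpowers g₁ with hL
  have hKL : K ≤ L := le_sup_left
  have hgL : g₁ ∈ L := Subgroup.mem_sup_right (Subgroup.mem_zpowers g₁)
  haveI := Fintype.ofFinite L
  set N := K.subgroupOf L with hN
  haveI := Fintype.ofFinite N
  haveI : N.Normal := Subgroup.Normal.comap inferInstance _
  let ι : N → K := fun x => ⟨((x : L) : G), Subgroup.mem_subgroupOf.1 x.2⟩
  let θ' : N → ℂ := fun x => θ (ι x)
  have hθ' : IsIrrCharacter N θ' := isIrr_subgroupOf K hKL hθ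
  have hcyc : IsCyclic (L ⧸ N) := by
    refine ⟨⟨((⟨g₁, hgL⟩ : L) : L ⧸ N), fun q => ?_⟩⟩
    obtain ⟨⟨l, hl⟩, rfl⟩ := QuotientGroup.mk_surjective q
    obtain ⟨k, hk, w, hw, hkw⟩ := Subgroup.mem_sup_of_normal_left.1 hl
    obtain ⟨i, hi⟩ := hw
    refine ⟨i, ?_⟩
    show ((⟨g₁, hgL⟩ : L) : L ⧸ N) ^ i = _
    rw [← QuotientGroup.mk_zpow, eq_comm, QuotientGroup.eq, hN, Subgroup.mem_subgroupOf]
    simp only [Subgroup.coe_mul, Subgroup.coe_inv, SubgroupClass.coe_zpow]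
    rw [← hkw, show g₁ ^ i = w from hi, show (k * w)⁻¹ * w = w⁻¹ * k⁻¹ * w⁻¹⁻¹ by group]
    exact Subgroup.Normal.conj_mem inferInstance _ (K.inv_mem hk) _
  have hinv' : ∀ (g : L) (x : N),
      θ' ⟨g * x * g⁻¹, Subgroup.Normal.conj_mem inferInstance (x : L) x.2 g⟩ = θ' x :=
    fun g x => congrFun (hinv (g : G)) (ι x)
  obtain ⟨η, hη, hηN⟩ := exists_extension_of_cyclic hθ' hinv' hcyc
  refine ⟨fun x => if hx : x ∈ L then η ⟨x, hx⟩ else 0, fun χ hχ => ?_⟩
  have hresθ := clifford_invariant K χ.2 hθ hχ hinv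
  set χL : L → ℂ := fun l => (χ : G → ℂ) l with hχL
  have hχLc : IsCharacter L χL := isCharacter_restrict (isCharacter_of_irr χ.2) L
  have hsum : χL = ∑ ψ : IrrCharacter L, classInner χL (ψ : L → ℂ) • (ψ : L → ℂ) :=
    eq_sum_irr (isClassFunction_char hχLc)
  set gL : L := ⟨g₁, hgL⟩ with hgLdef
  have hkey : ∀ ψ : IrrCharacter L, classInner χL (ψ : L → ℂ) ≠ 0 →
      ∃ b : ℂ, ∀ n : N, (ψ : L → ℂ) (gL * n) = b * η (gL * n) := by
    intro ψ hψ
    have hψN : IsCharacter N (fun n : N => (ψ : L → ℂ) n) :=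
      isCharacter_restrict (isCharacter_of_irr ψ.2) N
    obtain ⟨φ, hφ, hφc⟩ := exists_constituent hψN fun e => irr_one_ne_zero ψ (congrFun e 1)
    have hφθ : φ = θ' := by
      by_contra hne
      have h1 : classInner (fun n : N => χL n) φ = 0 := by
        rw [show (fun n : N => χL n) =
          classInner (fun n : K => (χ : G → ℂ) n) θ • θ' from funext fun n =>
            congrFun hresθ (ι n), classInner_smul_left,
          classInner_irr_ne hθ' hφ (Ne.symm hne), mul_zero]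
      rw [show (fun n : N => χL n) = ∑ ψ : IrrCharacter L,
        classInner χL (ψ : L → ℂ) • fun n : N => (ψ : L → ℂ) n from funext fun n => by
          have := congrFun hsum n
          simp only [Finset.sum_apply, Pi.smul_apply] at this ⊢
          exact this, classInner_sum_left] at h1
      simp only [classInner_smul_left] at h1
      choose a ha using fun ψ : IrrCharacter L =>
        classInner_char_nat hχLc (isCharacter_of_irr ψ.2)
      choose b hb using fun ψ : IrrCharacter L =>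
        classInner_char_nat (isCharacter_restrict (isCharacter_of_irr ψ.2) N) (isCharacter_of_irr hφ)
      simp only [ha, hb] at h1
      rw [← Finset.sum_congr rfl fun ψ _ => Nat.cast_mul (a ψ) (b ψ), ← Nat.cast_sum,
        Nat.cast_eq_zero, Finset.sum_eq_zero_iff] at h1
      rcases Nat.mul_eq_zero.1 (h1 ψ (Finset.mem_univ _)) with e | e
      · exact hψ (by rw [ha, e, Nat.cast_zero])
      · exact hφc (by rw [hb, e, Nat.cast_zero])
    have hres : IsIrrCharacter N (fun n : N => η n) := (funext hηN : _ = θ') ▸ hθ'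
    obtain ⟨β, hβ, hk, e⟩ := (gallagher N (isCharacter_of_irr hη) hres).2.2 ψ ψ.2 (by
      rw [show (fun n : N => η n) = θ' from funext hηN, ← hφθ]; exact hφc)
    refine ⟨β gL, fun n => ?_⟩
    rw [e, Pi.mul_apply]
    congr 1
    have h2 := apply_mul_of_kernel N (isCharacter_of_irr hβ) hk
      ⟨gL * n * gL⁻¹, Subgroup.Normal.conj_mem inferInstance (n : L) n.2 gL⟩ gL
    rwa [inv_mul_cancel_right] at h2
  choose b hb using hkey
  refine ⟨∑ ψ : IrrCharacter L, if hψ : classInner χL (ψ : L → ℂ) ≠ 0 then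
    classInner χL (ψ : L → ℂ) * b ψ hψ else 0, fun x hx => ?_⟩
  have hxK : g₁⁻¹ * x ∈ K := QuotientGroup.eq.1 hx.symm
  have hxL : x ∈ L := by
    rw [show x = g₁ * (g₁⁻¹ * x) by group]
    exact L.mul_mem hgL (hKL hxK)
  set n : N := ⟨⟨g₁⁻¹ * x, hKL hxK⟩, Subgroup.mem_subgroupOf.2 hxK⟩ with hn
  have hxn : (⟨x, hxL⟩ : L) = gL * n :=
    Subtype.ext (show x = g₁ * (g₁⁻¹ * x) by group)
  simp only [dif_pos hxL, Finset.sum_mul]
  rw [show (χ : G → ℂ) x = χL ⟨x, hxL⟩ from rfl, hxn]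
  refine (congrFun hsum _).trans ?_
  simp only [Finset.sum_apply, Pi.smul_apply, smul_eq_mul]
  refine Finset.sum_congr rfl fun ψ _ => ?_
  by_cases hψ : classInner χL (ψ : L → ℂ) ≠ 0
  · rw [dif_pos hψ, hb ψ hψ n]; ring
  · rw [dif_neg hψ, not_not.1 hψ, zero_mul, zero_mul]

/-- With at most two classes of regular elements in the quotient, the regular rank over a stable
character is at most two. -/
theorem rank_le_two_over {p : ℕ} {K : Subgroup G} [K.Normal] [Fintype K] {θ : K → ℂ}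
    (hθ : IsIrrCharacter K θ) (hinv : ∀ g : G, conjNormFun K g θ = θ)
    {B : Set (IrrCharacter G)}
    (hB : ∀ χ ∈ B, classInner (fun n : K => (χ : G → ℂ) n) θ ≠ 0)
    (hcl : ∀ q q' : G ⧸ K, ¬ p ∣ orderOf q → q ≠ 1 → ¬ p ∣ orderOf q' → q' ≠ 1 → IsConj q q') :
    blockRank p B ≤ 2 := by
  classical
  obtain ⟨Φ₀, hΦ₀⟩ := exists_coset_fun hθ hinv 1
  obtain ⟨g₁, hg₁⟩ : ∃ g₁ : G, ∀ x : G, ¬ p ∣ orderOf x → (x : G ⧸ K) ≠ 1 →
      ∃ t : G, ((t * x * t⁻¹ : G) : G ⧸ K) = (g₁ : G ⧸ K) := by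
    by_cases hex : ∃ x : G, ¬ p ∣ orderOf x ∧ (x : G ⧸ K) ≠ 1
    · obtain ⟨g₁, h1, h2⟩ := hex
      refine ⟨g₁, fun x hx hx1 => ?_⟩
      obtain ⟨q, hq⟩ := isConj_iff.1 (hcl _ _
        (fun e => hx (e.trans (orderOf_map_dvd (QuotientGroup.mk' K) x))) hx1
        (fun e => h1 (e.trans (orderOf_map_dvd (QuotientGroup.mk' K) g₁))) h2)
      obtain ⟨t, rfl⟩ := QuotientGroup.mk_surjective q
      exact ⟨t, by rw [QuotientGroup.mk_mul, QuotientGroup.mk_mul, QuotientGroup.mk_inv]; exact hq⟩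
    · push Not at hex
      exact ⟨1, fun x hx hx1 => absurd (hex x hx) hx1⟩
  obtain ⟨Φ₁, hΦ₁⟩ := exists_coset_fun hθ hinv g₁
  let F₀ : G → ℂ := fun x =>
    if ¬ p ∣ orderOf x ∧ (x : G ⧸ K) = 1 then Φ₀ x else 0
  let F₁ : G → ℂ := fun x =>
    if hx : ¬ p ∣ orderOf x ∧ (x : G ⧸ K) ≠ 1 then
      Φ₁ ((hg₁ x hx.1 hx.2).choose * x * (hg₁ x hx.1 hx.2).choose⁻¹) else 0
  rw [blockRank]
  have h2 : Module.finrank ℂ ↥(Submodule.span ℂ ({F₀, F₁} : Set (G → ℂ))) ≤ 2 := by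
    have := finrank_span_finset_le_card (R := ℂ) ({F₀, F₁} : Finset (G → ℂ))
    rw [Finset.coe_pair] at this
    exact this.trans Finset.card_le_two
  refine le_trans (Submodule.finrank_mono ?_) h2
  rw [Submodule.span_le]
  rintro _ ⟨χ, hχ, rfl⟩
  obtain ⟨c₀, hc₀⟩ := hΦ₀ χ (hB χ hχ)
  obtain ⟨c₁, hc₁⟩ := hΦ₁ χ (hB χ hχ)
  rw [SetLike.mem_coe, Submodule.mem_span_pair]
  refine ⟨c₀, c₁, funext fun x => ?_⟩
  simp only [Pi.add_apply, Pi.smul_apply, smul_eq_mul, F₀, F₁, pRegularPart_apply]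
  by_cases hx : p ∣ orderOf x
  · rw [if_pos hx, if_neg (fun e => e.1 hx), dif_neg (fun e => e.1 hx), mul_zero, mul_zero,
      add_zero]
  · rw [if_neg hx]
    by_cases hxK : (x : G ⧸ K) = 1
    · rw [if_pos ⟨hx, hxK⟩, dif_neg (fun e => e.2 hxK), mul_zero, add_zero,
        ← hc₀ x (hxK.trans (QuotientGroup.mk_one K).symm)]
    · rw [if_neg (fun e => hxK e.2), dif_pos ⟨hx, hxK⟩, mul_zero, zero_add,
        ← hc₁ _ (hg₁ x hx hxK).choose_spec]
      exact irr_isClassFun χ x (hg₁ x hx hxK).choose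

end CfsgLib.Blocks.DihBlock
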