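import Cfsg.Agent.Lib.Blocks.DihBlock.RankThree.Classes
import Cfsg.Agent.Lib.Blocks.DihBlock.RankThree.OverTheta
import Cfsg.Agent.Lib.PLocal.SolvableSeparable

/-!
# Tame blocks of solvable groups
-/

namespace CfsgLib.Blocks.DihBlock

open Cfsg CfsgLib.CharTheory

set_option linter.unusedVariables false
set_option linter.unusedSimpArgs false
set_option linter.style.haveILetI false
set_option linter.unusedSectionVars false

universe u

variable {M : Ideal AlgInt}

/-- The transport of the hypothesis on the defect group. -/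
theorem tame_congr {A B : Type u} [Group A] [Group B] (e : A ≃* B)
    (h : (∃ n : ℕ, 3 ≤ n ∧ Nonempty (A ≃* DihedralGroup (2 ^ (n - 1)))) ∨ IsQuasiDihedral A) :
    (∃ n : ℕ, 3 ≤ n ∧ Nonempty (B ≃* DihedralGroup (2 ^ (n - 1)))) ∨ IsQuasiDihedral B := by
  rcases h with ⟨n, hn, ⟨i⟩⟩ | ⟨n, hn, hc, x, y, hx, hy, hr⟩
  · exact Or.inl ⟨n, hn, ⟨e.symm.trans i⟩⟩
  · refine Or.inr ⟨n, hn, by rw [← Nat.card_congr e.toEquiv, hc], e x, e y, ?_, ?_, ?_⟩
    · rw [MulEquiv.orderOf_eq, hx]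
    · rw [MulEquiv.orderOf_eq, hy]
    · rw [← map_inv, ← map_mul, ← map_mul, hr, map_pow]

/-- In a solvable group a block with dihedral or semidihedral defect group has at most two
modular characters. -/
theorem solvable_rank_le_two (hM : IsPModular 2 M) : ∀ (n : ℕ) (G : Type u) [Group G] [Fintype G],
    Nat.card G = n → Group.IsSolvable G → ∀ (B : Set (IrrCharacter G)) (D : Subgroup G),
      IsPBlock M B → IsDefectGroup 2 M B D →
      ((∃ n : ℕ, 3 ≤ n ∧ Nonempty (D ≃* DihedralGroup (2 ^ (n - 1)))) ∨ IsQuasiDihedral D) →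
      blockRank 2 B ≤ 2 := by
  intro n
  induction n using Nat.strong_induction_on with
  | _ n ih =>
  intro G _ _ hn hsol B D hB hD hD'
  classical
  haveI : Fact (Nat.Prime 2) := ⟨Nat.prime_two⟩
  haveI := hsol
  have hps : IsPSolvable 2 G := CfsgLib.PLocal.isPSolvable_of_isSolvable _ G rfl hsol
  rcases fong_reduction hM hps hB hD with ⟨θ, hfin, hθ, hinv, hmem, P, rfl⟩ |
      ⟨T, _, B', D', x, hT, hB', hD₁, hx, f, hf⟩
  swap
  · refine (blockRank_le_of_induced (p := 2) (B := B) (B' := B') fun χ hχ => ?_).trans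
      (ih (Nat.card T) ?_ T rfl inferInstance B' D' hB' hD₁ ?_)
    · refine ⟨(f.symm ⟨χ, hχ⟩).1, (f.symm ⟨χ, hχ⟩).2, ?_⟩
      have h1 := (hf (f.symm ⟨χ, hχ⟩)).1
      rw [Equiv.apply_symm_apply] at h1
      exact h1
    · rw [← hn]
      exact lt_of_le_of_ne (Subgroup.card_le_card_group T) fun e =>
        hT (Subgroup.eq_top_of_card_eq T e)
    · exact tame_congr (((MulEquiv.subgroupCongr hx.symm).trans
        ((D'.map T.subtype).equivMapOfInjective _ (MulAut.conj x).injective).symm).trans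
        (D'.equivMapOfInjective _ T.subtype_injective).symm) hD'
  set π := QuotientGroup.mk' (pPrimeCore 2 G) with hπ
  have hinj : ∀ d ∈ (P : Subgroup G), π d = 1 → d = 1 := by
    intro d hd h1
    have h2 : d ∈ (pPrimeCore 2 G) := (QuotientGroup.eq_one_iff d).1 h1
    obtain ⟨j, hj⟩ := IsPGroup.iff_orderOf.1 P.isPGroup' ⟨d, hd⟩
    rw [← Subgroup.orderOf_coe] at hj
    rw [← orderOf_eq_one_iff]
    exact Nat.eq_one_of_dvd_coprimes
      ((Nat.prime_two.coprime_iff_not_dvd.2 not_dvd_card_pPrimeCore').pow_left j) hj.dvd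
      (Subgroup.orderOf_dvd_natCard (pPrimeCore 2 G) h2)
  have hpsq : IsPSolvable 2 (G ⧸ (pPrimeCore 2 G)) :=
    PSolvableClosure.of_surjective π (QuotientGroup.mk'_surjective (pPrimeCore 2 G)) hps
  have hcent : Subgroup.centralizer (pCore 2 (G ⧸ (pPrimeCore 2 G)) : Set (G ⧸ (pPrimeCore 2 G))) ≤ pCore 2 (G ⧸ (pPrimeCore 2 G)) :=
    hall_higman hpsq (pPrimeCore_quotient_eq_bot 2)
  haveI : (pCore 2 (G ⧸ (pPrimeCore 2 G))).Normal := pCore_normal'
  let Pb : Sylow 2 (G ⧸ (pPrimeCore 2 G)) := P.mapSurjective (QuotientGroup.mk'_surjective (pPrimeCore 2 G))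
  have hPb : (Pb : Subgroup (G ⧸ (pPrimeCore 2 G))) = (P : Subgroup G).map π := Sylow.coe_mapSurjective _ _
  have hQP : pCore 2 (G ⧸ (pPrimeCore 2 G)) ≤ (P : Subgroup G).map π := hPb ▸ CfsgLib.pCore_le_sylow Pb
  -- an involution of the normal two-subgroup coming from the Sylow subgroup
  have hQinv : ∀ d₀ ∈ (P : Subgroup G), d₀ ≠ 1 →
      ∃ d ∈ (P : Subgroup G), d ≠ 1 ∧ d * d = 1 ∧ π d ∈ pCore 2 (G ⧸ (pPrimeCore 2 G)) ∧
        ∀ e ∈ (P : Subgroup G), Commute d e := by
    intro d₀ hd₀ hd₀1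
    have hQne : pCore 2 (G ⧸ (pPrimeCore 2 G)) ≠ ⊥ := by
      intro h0
      rw [h0] at hcent
      exact hd₀1 (hinj d₀ hd₀ (Subgroup.mem_bot.1 (hcent fun q hq => by
        rw [Subgroup.mem_bot.1 hq, one_mul, mul_one])))
    -- a normal subgroup meets the centre of the Sylow subgroup
    set R : Subgroup (P : Subgroup G) := (pCore 2 (G ⧸ (pPrimeCore 2 G))).comap (π.comp (P : Subgroup G).subtype)
    haveI : R.Normal := Subgroup.Normal.comap inferInstance _
    have hRne : R ≠ ⊥ := by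
      obtain ⟨⟨q, hq⟩, hq1⟩ := Subgroup.ne_bot_iff_exists_ne_one.1 hQne
      obtain ⟨d, hd, rfl⟩ := hQP hq
      intro h0
      have hmemR : (⟨d, hd⟩ : (P : Subgroup G)) ∈ R := hq
      rw [h0, Subgroup.mem_bot] at hmemR
      exact hq1 (Subtype.ext ((congrArg (fun z : (P : Subgroup G) => π (z : G)) hmemR).trans
        (map_one π)))
    haveI : Nontrivial R := (Subgroup.nontrivial_iff_ne_bot R).2 hRne
    obtain ⟨c, hcR, hcz, hc1⟩ : ∃ c : (P : Subgroup G), c ∈ R ∧ c ∈ Subgroup.center _ ∧ c ≠ 1 := by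
      haveI : Group.IsNilpotent (P : Subgroup G) := P.isPGroup'.isNilpotent
      obtain ⟨⟨c, hc⟩, hc1⟩ := Subgroup.ne_bot_iff_exists_ne_one.1
        (CfsgLib.inf_center_ne_bot_of_nilpotent hRne)
      exact ⟨c, hc.1, hc.2, fun e => hc1 (Subtype.ext e)⟩
    obtain ⟨i, hi⟩ := IsPGroup.iff_orderOf.1 P.isPGroup' c
    rcases i with _ | i
    · exact absurd (orderOf_eq_one_iff.1 (by rw [hi, pow_zero])) hc1
    refine ⟨((c ^ 2 ^ i : (P : Subgroup G)) : G), (c ^ 2 ^ i).2, fun e => ?_, ?_,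
      R.pow_mem hcR _, fun e he => ?_⟩
    · have h2 := Nat.le_of_dvd (by positivity) (orderOf_dvd_of_pow_eq_one (Subtype.ext e : c ^ 2 ^ i = 1))
      rw [hi, pow_succ] at h2
      have := Nat.one_le_two_pow (n := i)
      omega
    · rw [← Subgroup.coe_mul, ← pow_add, ← two_mul, ← pow_succ', ← hi, pow_orderOf_eq_one,
        Subgroup.coe_one]
    · exact congrArg Subtype.val
        (Subgroup.mem_center_iff.1 ((Subgroup.center _).pow_mem hcz (2 ^ i)) ⟨e, he⟩).symm
  rcases hD' with ⟨m, hm, hdih⟩ | hsd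
  · obtain ⟨σ, h, hd⟩ := exists_dg hm hdih
    by_contra hl
    obtain ⟨d, hdP, hd1, hd2, hdQ, hdc⟩ := hQinv (σ ^ h)
      (hd.zle (Subgroup.npow_mem_zpowers σ h)) hd.toCyc.z_ne.1
    rw [(hd.central hdP hdc).resolve_left hd1] at hdQ
    obtain ⟨s, hs, hns⟩ := hd.exists_out
    have hfuse : ∀ τ ∈ (P : Subgroup G), τ ≠ 1 → τ * τ = 1 → IsConj (σ ^ h) τ := by
      intro τ hτ h1 h2
      by_contra hc
      exact hl (rank_le_two hM hB hD hd hτ h1 h2 fun e => hc e.symm)
    -- every reflection, hence every element, lands in the normal subgroup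
    have hout : ∀ τ ∈ (P : Subgroup G), τ ∉ Subgroup.zpowers σ → π τ ∈ pCore 2 (G ⧸ (pPrimeCore 2 G)) := by
      intro τ hτ hn
      obtain ⟨c, hc⟩ := isConj_iff.1 (hfuse τ hτ (fun e => hn (e ▸ one_mem _)) (hd.out hτ hn).1)
      rw [← hc, map_mul, map_mul, map_inv]
      exact Subgroup.Normal.conj_mem inferInstance _ hdQ _
    have hall : ∀ τ ∈ (P : Subgroup G), π τ ∈ pCore 2 (G ⧸ (pPrimeCore 2 G)) := by
      intro τ hτ
      by_cases hn : τ ∈ Subgroup.zpowers σ
      · have h1 := hout (τ * s) (P.mul_mem hτ hs) fun e =>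
          hns (by simpa using (Subgroup.zpowers σ).mul_mem ((Subgroup.zpowers σ).inv_mem hn) e)
        have h2 := (pCore 2 (G ⧸ (pPrimeCore 2 G))).mul_mem h1 ((pCore 2 (G ⧸ (pPrimeCore 2 G))).inv_mem (hout s hs hns))
        rwa [← map_inv, ← map_mul, mul_inv_cancel_right] at h2
      · exact hout τ hτ hn
    -- so the image of the reflection is central in the image of the Sylow subgroup
    obtain ⟨c, hc⟩ := isConj_iff.1 (hfuse s hs (fun e => hns (e ▸ one_mem _)) (hd.out hs hns).1)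
    have hcomm : Commute (π s) (π σ) := by
      obtain ⟨τ, hτ, hτe⟩ := hQP (Subgroup.Normal.conj_mem (inferInstance : (pCore 2 (G ⧸ (pPrimeCore 2 G))).Normal)
        _ (hall σ hd.mem) (π c)⁻¹)
      rw [inv_inv] at hτe
      have h1 : Commute (π (σ ^ h)) (π τ) := ((hd.z_central hτ).symm).map π
      rw [hτe] at h1
      have h2 : Commute (π c * π (σ ^ h) * (π c)⁻¹) (π c * ((π c)⁻¹ * π σ * π c) * (π c)⁻¹) :=
        (Commute.conj_iff (π c)).2 h1
      rw [← map_inv, ← map_mul, ← map_mul, hc, show π c * ((π c⁻¹) * π σ * π c) * π c⁻¹ = π σ by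
        rw [map_inv]; group] at h2
      exact h2
    have h3 : π (s * σ * s⁻¹ * σ⁻¹) = 1 := by
      rw [map_mul, map_mul, map_mul, map_inv, map_inv, hcomm.eq, mul_inv_cancel_right,
        mul_inv_cancel]
    have h4 := hinj _ (mul_mem (mul_mem (mul_mem hs hd.mem) (inv_mem hs)) (inv_mem hd.mem)) h3
    rw [(hd.out hs hns).2, mul_eq_one_iff_eq_inv, inv_inv] at h4
    have h2' := hd.toCyc.two_le
    refine hd.toCyc.pow_ne_one (l := 2) two_pos (by omega) ?_
    rw [pow_two]
    exact mul_eq_one_iff_eq_inv.2 h4.symm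
  · obtain ⟨xx, y, h, hd⟩ := exists_sd hsd
    obtain ⟨d, hdP, hd1, hd2, hdQ, hdc⟩ := hQinv (xx ^ h)
      (P.pow_mem hd.memx h) hd.cyc.z_ne.1
    rw [(hd.central hdP (hdc _ hd.memx) (hdc _ hd.memy)).resolve_left hd1] at hdQ
    -- the image is semidihedral
    have hord : orderOf (π xx) = 2 * h := by
      rw [← hd.ord]
      refine Nat.dvd_antisymm (orderOf_map_dvd π xx) (orderOf_dvd_of_pow_eq_one ?_)
      refine hinj _ (P.pow_mem hd.memx _) ?_
      rw [map_pow, pow_orderOf_eq_one]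
    have hsdb : SD (Pb : Subgroup (G ⧸ (pPrimeCore 2 G))) (π xx) (π y) h := by
      refine ⟨hd.hpow, hord, ?_, ?_, ?_, ?_, ?_⟩
      · rw [hPb, ← hd.card]
        refine (Nat.card_congr (Equiv.ofBijective
          (fun a : (P : Subgroup G) => (⟨π a, a, a.2, rfl⟩ : (P : Subgroup G).map π))
          ⟨fun a b e => ?_, ?_⟩)).symm
        · have e' : π (a : G) = π (b : G) := congrArg Subtype.val e
          have e1 : π ((a : G) * (b : G)⁻¹) = 1 := by
            rw [map_mul, map_inv, e', mul_inv_cancel]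
          exact Subtype.ext (mul_inv_eq_one.1 (hinj _ (mul_mem a.2 (inv_mem b.2)) e1))
        · rintro ⟨_, a, ha, rfl⟩; exact ⟨⟨a, ha⟩, rfl⟩
      · rw [hPb]; exact ⟨xx, hd.memx, rfl⟩
      · rw [hPb]; exact ⟨y, hd.memy, rfl⟩
      · rw [← map_mul, hd.sq, map_one]
      · rw [← map_inv, ← map_mul, ← map_mul, hd.rel, map_pow]
    -- the involution is the only central one in the normal two-subgroup
    have hz : π xx ^ h ∈ Subgroup.center (G ⧸ (pPrimeCore 2 G)) := by
      rw [← map_pow]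
      have hzc : ∀ b : G ⧸ (pPrimeCore 2 G), b ∈ pCore 2 (G ⧸ (pPrimeCore 2 G)) → Commute (π (xx ^ h)) b := by
        intro b hb
        obtain ⟨a, ha, rfl⟩ := hQP hb
        exact ((hd.z_central ha).symm).map π
      have huniq : ∀ w ∈ pCore 2 (G ⧸ (pPrimeCore 2 G)), w ≠ 1 → w * w = 1 →
          (∀ b ∈ pCore 2 (G ⧸ (pPrimeCore 2 G)), Commute w b) → w = π (xx ^ h) := by
        intro w hw hw1 hw2 hwc
        have hwP : w ∈ (Pb : Subgroup (G ⧸ (pPrimeCore 2 G))) := hPb ▸ hQP hw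
        rw [map_pow]
        by_cases hn : w ∈ Subgroup.zpowers (π xx)
        · exact (hsdb.cyc.sq_eq_one hn hw2).resolve_left hw1
        · exfalso
          -- the commutator with the rotation lies in the normal subgroup
          have hcm : π xx * w * (π xx)⁻¹ * w⁻¹ ∈ pCore 2 (G ⧸ (pPrimeCore 2 G)) :=
            mul_mem (Subgroup.Normal.conj_mem inferInstance _ hw _) (inv_mem hw)
          have he := hwc _ hcm
          obtain ⟨h4, t, ht⟩ := hd.arith
          have h1 := hsdb.conj_out hwP hn 1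
          rw [pow_one, mul_one] at h1
          have hwi : w⁻¹ = w := (eq_inv_of_mul_eq_one_left hw2).symm
          have hk : π xx * w * (π xx)⁻¹ * w⁻¹ = π xx * π xx ^ (2 * h - (h - 1)) := by
            have h1' : w * (π xx)⁻¹ * w⁻¹ = π xx ^ (2 * h - (h - 1)) := by
              rw [show w * (π xx)⁻¹ * w⁻¹ = (w * π xx * w⁻¹)⁻¹ by group, h1,
                ← hsdb.cyc.pow_sub' (by omega)]
            rw [← h1']; group
          rw [hk, ← pow_succ'] at he
          have h5 := hsdb.conj_out hwP hn (2 * h - (h - 1) + 1)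
          rw [he.eq, mul_inv_cancel_right, show 2 * h - (h - 1) + 1 = h + 2 by omega] at h5
          have h6 : (h - 1) * (h + 2) = (2 * t) * (2 * h) + (h - 2) := by
            obtain ⟨k, hk'⟩ : ∃ k, h = k + 2 := ⟨h - 2, by omega⟩
            rw [show h - 1 = k + 1 by omega, show h - 2 = k by omega]
            nlinarith
          have h8 : π xx ^ ((2 * t) * (2 * h) + (h - 2)) = π xx ^ (h - 2) := by
            rw [pow_add, mul_comm (2 * t), pow_mul _ (2 * h), hsdb.cyc.pow_N, one_pow, one_mul]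
          rw [h6, h8, show h + 2 = (h - 2) + 4 by omega, pow_add] at h5
          exact hsdb.cyc.pow_ne_one (l := 4) (by omega) (by omega) (mul_eq_left.1 h5)
      refine Subgroup.mem_center_iff.2 fun g => mul_inv_eq_iff_eq_mul.1 ?_
      refine huniq _ (Subgroup.Normal.conj_mem inferInstance _ hdQ g)
        (fun e => ?_) ?_ fun b hb => ?_
      · rw [conj_eq_one_iff] at e
        exact hd.cyc.z_ne.1 (hinj _ (P.pow_mem hd.memx h) e)
      · rw [show g * π (xx ^ h) * g⁻¹ * (g * π (xx ^ h) * g⁻¹) =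
          g * (π (xx ^ h) * π (xx ^ h)) * g⁻¹ by group, ← map_mul, hd.cyc.z_ne.2, map_one]
        group
      · have h7 := (Commute.conj_iff g).2 (hzc _ (Subgroup.Normal.conj_mem inferInstance _ hb g⁻¹))
        rwa [show g * (g⁻¹ * b * g⁻¹⁻¹) * g⁻¹ = b by group] at h7
    refine @rank_le_two_over G _ _ 2 (pPrimeCore 2 G) _ hfin θ hθ hinv B (fun χ hχ => (hmem χ).1 hχ) fun q q' hq hq1 hq' hq'1 => ?_
    exact odd_classes hsdb hz hcent hq hq1 hq' hq'1

end CfsgLib.Blocks.DihBlock
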